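import Cfsg.Agent.Lib.CosetCert.D.RuT.Tbl
import Cfsg.Agent.Lib.CosetCert.D.RuT.Lv1.CT

namespace Cfsg.Agent.Lib.CosetCert.D.RuT.Lv1.Tab

open Cfsg.Agent.Lib.CosetCert Cfsg.Agent.Lib.TC.Core Cfsg.Agent.Lib.TC.Enc Cfsg.Agent.Lib.TC.Pres Cfsg.Agent.Lib.TC.Perm Cfsg.Agent.Lib.TC.Main

set_option maxRecDepth 100000

open Cfsg.Agent.Lib.CosetCert.D.RuT.Tbl

/-- The chunks. -/
noncomputable def ctree : Tr Nat := Cfsg.Agent.Lib.CosetCert.D.RuT.Lv1.CT.tree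

/-- The relator rotations. -/
noncomputable def rotT : Tr (List Nat) := (Tr.node (Tr.node (Tr.node (Tr.node (Tr.node (Tr.node (Tr.node (Tr.node (Tr.leaf []) (Tr.leaf [1,1,0,1,0,3,3,2,1,1,2,1,2,0])) (Tr.node (Tr.leaf [2,1,2,3,2,0,1,1,0,1,0,1]) (Tr.leaf [0,1,1,2,0,3,2,0,3,2,0,1,0,1,2,0,2]))) (Tr.node (Tr.node (Tr.leaf [3,0,2,1,2,3,2,0,1,0]) (Tr.leaf [2,0,3,0,1,1,0,1,2,3,0,1,1,0,1,0])) (Tr.node (Tr.leaf [3,3,2,0,1,1,0,1,0,2,3,2]) (Tr.leaf [])))) (Tr.node (Tr.node (Tr.node (Tr.leaf [0,1,1,0,3,0,1,0,1,1]) (Tr.leaf [0,2,1,0,3,2,0,1,2,1,0,3,2,3])) (Tr.node (Tr.leaf [3,0,3,3,0,3,2,1,2,3,2,0]) (Tr.leaf [0,0]))) (Tr.node (Tr.node (Tr.leaf [2,1,1,2,3,2,1,2,1,1]) (Tr.leaf [1,1,0,1,0,3,2,0,1,0,3,0,1,1,2,0])) (Tr.node (Tr.leaf [2,0,3,2,1,0,2,0,3,2,1,0]) (Tr.leaf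 []))))) (Tr.node (Tr.node (Tr.node (Tr.node (Tr.leaf [1,2,1,2,1,2,1,2]) (Tr.leaf [3,0,2,0,1,2,1,0,2,0,2,0,3,2])) (Tr.node (Tr.leaf [0,3,3,0,1,0,1,2,1,2,3,2]) (Tr.leaf [0,3,2,0,3,2,0,3,0,1,2,0,2,0,1,2,3]))) (Tr.node (Tr.node (Tr.leaf [2,0,2,0,2,0,2,0,2,0]) (Tr.leaf [0,2,0,1,0,2,0,3,0,2,0,3,2,0,2,1])) (Tr.node (Tr.leaf [0,1,0,3,0,2,3,2,3,3,2,3]) (Tr.leaf [])))) (Tr.node (Tr.node (Tr.node (Tr.leaf [3,3,0,3,0,1,0,3,3,0]) (Tr.leaf [0,2,0,2,3,2,3,0,2,0,2,3,2,3])) (Tr.node (Tr.leaf [3,2,1,1,2,0,1,1,0,1,0,2]) (Tr.leaf []))) (Tr.node (Tr.node (Tr.leaf [2,1,2,3,3,2,1,1,2,3]) (Tr.leaf [0,2,3,2,3,2,0,3,2,3,0,2,1,0,3,2])) (Tr.node (Tr.leaf [2,3,3,2,3,3,0,3,0,1,1,0,2,3]) (Tr.leaf [])))))) (Tr.node (Tr.node (Tr.node (Tr.node (Tr.node (Tr.leaf [0,1,0,1,0,1,0,1]) (Tr.leaf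 [2,1,0,2,0,2,0,3,2,3,0,2,0,1])) (Tr.node (Tr.leaf [2,3,2,3,0,3,0,3,3,0,2,1]) (Tr.leaf [2,3,0,3,0,2,1,0,2,1,0,2,3,3,0,2,0]))) (Tr.node (Tr.node (Tr.leaf [2,3,2,0,1,0,3,0,2,1]) (Tr.leaf [3,0,2,0,3,2,0,2,1,0,2,0,1,0,2,0])) (Tr.node (Tr.leaf [0,3,0,1,2,1,1,2,1,2,0,1]) (Tr.leaf [])))) (Tr.node (Tr.node (Tr.node (Tr.leaf [3,0,1,0,1,1,0,1,1,0]) (Tr.leaf [2,0,1,2,1,0,3,2,3,0,2,1,0,3])) (Tr.node (Tr.leaf [0,1,1,0,3,2,1,2,3,2,0,3]) (Tr.leaf []))) (Tr.node (Tr.node (Tr.leaf [1,2,1,1,2,1,1,2,3,2]) (Tr.leaf [1,2,3,2,0,1,0,3,2,0,2,0,2,0,2,0])) (Tr.node (Tr.leaf [1,0,2,0,3,2,1,0,2,0,3,2]) (Tr.leaf []))))) (Tr.node (Tr.node (Tr.node (Tr.node (Tr.leaf [1,0,1,1,0,1,1,0,3,0]) (Tr.leaf [1,2,1,0,3,2,3,0,2,1,0,3,2,0])) (Tr.node (Tr.leaf [0,1,1,0,1,0,2,1,2,3,2,1]) (Tr.leaf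 [0,1,2,0,3,0,1,2,0,3,2,3,0,3,2,0,2]))) (Tr.node (Tr.node (Tr.leaf [2,3,2,3,2,3,2,1,1,1]) (Tr.leaf [2,0,1,2,1,0,3,2,0,3,0,2,1,2,0,3])) (Tr.node (Tr.leaf [3,3,2,0,1,0,3,0,3,2,3,2]) (Tr.leaf [])))) (Tr.node (Tr.node (Tr.node (Tr.leaf [0,3,0,1,0,1,1,0,3,3]) (Tr.leaf [2,1,0,2,0,3,2,1,0,2,1,0,1,0,1,0])) (Tr.node (Tr.leaf [0,1,1,0,1,0,2,3,2,1,1,2]) (Tr.leaf []))) (Tr.node (Tr.node (Tr.leaf [0,3,0,2,1,2,3,2,0,3,3,3]) (Tr.leaf [2,1,1,2,1,2,3,0,1,2,3,2,1,1,2,0])) (Tr.node (Tr.leaf [1,0,1,2,3,2,1,1,2,3,0,1,1,0]) (Tr.leaf []))))))) (Tr.node (Tr.node (Tr.node (Tr.node (Tr.node (Tr.node (Tr.leaf [3,3,3,3]) (Tr.leaf [0,1,2,1,0,2,0,2,0,3,2,3,0,2])) (Tr.node (Tr.leaf [0,1,1,0,1,0,1,2,1,2,3,2]) (Tr.leaf [1,2,0,3,2,0,3,2,0,1,0,1,2,0,2,0,1]))) (Tr.node (Tr.node (Tr.leaf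 [2,1,2,3,2,0,1,0,3,0]) (Tr.leaf [0,2,0,3,0,2,0,3,2,0,2,1,0,2,0,1])) (Tr.node (Tr.leaf [2,1,2,0,3,0,3,3,0,2,1,1]) (Tr.leaf [])))) (Tr.node (Tr.node (Tr.node (Tr.leaf [1,0,3,0,1,0,1,1,0,1]) (Tr.leaf [1,0,3,2,0,1,2,1,0,3,2,3,0,2])) (Tr.node (Tr.leaf [0,2,1,2,3,2,1,0,3,3,0,1]) (Tr.leaf [2,2]))) (Tr.node (Tr.node (Tr.leaf [2,3,2,1,2,1,1,2,1,1]) (Tr.leaf [2,3,0,1,0,3,2,0,1,2,1,2,0,2,0,3])) (Tr.node (Tr.leaf [3,2,1,0,2,0,3,2,1,0,2,0]) (Tr.leaf []))))) (Tr.node (Tr.node (Tr.node (Tr.node (Tr.leaf [2,3,2,3,2,3,2,3]) (Tr.leaf [2,0,1,2,1,0,2,0,2,0,3,2,3,0])) (Tr.node (Tr.leaf [0,2,1,2,3,2,1,0,1,1,0,1]) (Tr.leaf [0,1,2,0,1,0,2,1,0,2,1,0,3,3,2,0,2]))) (Tr.node (Tr.node (Tr.leaf [1,1,1,2,3,2,3,2,3,2]) (Tr.leaf [2,3,0,1,1,0,1,0,2,1,0,3,0,1,1,0])) (Tr.node (Tr.leaf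 [0,1,0,3,0,2,1,1,2,1,2,1]) (Tr.leaf [])))) (Tr.node (Tr.node (Tr.node (Tr.leaf [0,1,0,1,1,0,3,3,0,3]) (Tr.leaf [2,0,2,0,2,0,2,0,2,3,0,3,0,3,0,3])) (Tr.node (Tr.leaf [1,2,0,1,1,0,1,0,2,3,2,1]) (Tr.leaf []))) (Tr.node (Tr.node (Tr.leaf [1,1,1,0,2,1,2,3,2,0,1,0]) (Tr.leaf [0,1,2,3,0,1,2,3,0,1,2,3,0,1,2,3])) (Tr.node (Tr.leaf [3,0,1,1,0,1,2,1,2,3,2,3,3,0]) (Tr.leaf [])))))) (Tr.node (Tr.node (Tr.node (Tr.node (Tr.node (Tr.leaf [3,0,3,0,3,0,3,0]) (Tr.leaf [2,0,3,2,3,0,2,0,1,2,1,0,2,0])) (Tr.node (Tr.leaf [0,1,0,1,2,1,2,3,2,0,3,3]) (Tr.leaf [3,3,2,0,3,2,0,3,2,0,1,0,1,2,0,2,0]))) (Tr.node (Tr.node (Tr.leaf [2,0,1,0,3,0,2,1,2,3]) (Tr.leaf [0,2,1,0,2,0,1,0,2,0,3,0,2,0,3,2])) (Tr.node (Tr.leaf [3,2,3,3,2,3,0,1,0,3,0,2]) (Tr.leaf [])))) (Tr.node (Tr.node (Tr.node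 (Tr.leaf [3,3,0,3,3,0,3,0,1,0]) (Tr.leaf [0,2,3,2,3,0,2,0,2,3,2,3,0,2])) (Tr.node (Tr.leaf [0,2,3,2,1,1,2,0,1,1,0,1]) (Tr.leaf []))) (Tr.node (Tr.node (Tr.leaf [3,3,2,3,2,1,2,3,3,2]) (Tr.leaf [2,3,0,2,0,1,1,0,2,0,1,2,0,1,1,0])) (Tr.node (Tr.leaf [3,2,1,0,2,0,3,2,1,0,2,0]) (Tr.leaf []))))) (Tr.node (Tr.node (Tr.node (Tr.node (Tr.leaf [1,1,0,1,1,0,3,0,1,0]) (Tr.leaf [0,3,2,3,0,2,1,0,3,2,0,1,2,1])) (Tr.node (Tr.leaf [2,0,3,0,3,3,0,3,2,1,2,3]) (Tr.leaf [2,0,1,2,3,2,0,2,1,1,0,2,0,1,0,2,3]))) (Tr.node (Tr.node (Tr.leaf [1,1,2,1,1,2,3,2,1,2]) (Tr.leaf [0,2,0,3,2,1,0,2,1,1,0,1,0,2,1,2])) (Tr.node (Tr.leaf [2,3,2,1,1,2,0,1,0,3,0,3]) (Tr.leaf [])))) (Tr.node (Tr.node (Tr.node (Tr.leaf [1,0,3,0,2,1,2,3,2,0]) (Tr.leaf [1,2,3,0,1,1,0,1,0,2,0,1,0,3,0,1])) (Tr.node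 (Tr.leaf [3,3,2,1,2,0,3,0,3,3,0,2]) (Tr.leaf []))) (Tr.node (Tr.node (Tr.leaf [0,1,2,1,2,3,2,0,1,1,0,1]) (Tr.leaf [0,2,3,2,0,2,1,2,0,2,3,2,0,2,1,2])) (Tr.node (Tr.leaf [1,2,3,2,3,3,2,1,0,3,0,1,1,0]) (Tr.leaf [])))))))) (Tr.node (Tr.node (Tr.node (Tr.node (Tr.node (Tr.node (Tr.node (Tr.leaf [1,1,1,1]) (Tr.leaf [2,3,2,3,3,2,1,1,0,3,0,3,3,0])) (Tr.node (Tr.leaf [1,2,3,2,0,1,1,0,1,0,1,2]) (Tr.leaf [1,1,2,0,3,2,0,3,2,0,1,0,1,2,0,2,0]))) (Tr.node (Tr.node (Tr.leaf [0,2,1,2,3,2,0,1,0,3]) (Tr.leaf [2,3,0,1,1,0,1,0,2,0,3,0,1,1,0,1])) (Tr.node (Tr.leaf [1,1,2,1,2,0,3,0,3,3,0,2]) (Tr.leaf [])))) (Tr.node (Tr.node (Tr.node (Tr.leaf [1,1,0,3,0,1,0,1,1,0]) (Tr.leaf [2,1,0,3,2,0,1,2,1,0,3,2,3,0])) (Tr.node (Tr.leaf [0,1,0,2,1,2,3,2,1,0,3,3]) (Tr.leaf [1,3]))) (Tr.node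 (Tr.node (Tr.leaf [1,1,2,3,2,1,2,1,1,2]) (Tr.leaf [3,3,0,1,0,3,2,0,1,0,3,0,1,1,2,0])) (Tr.node (Tr.leaf [0,3,2,1,0,2,0,3,2,1,0,2]) (Tr.leaf []))))) (Tr.node (Tr.node (Tr.node (Tr.node (Tr.leaf [3,2,3,2,3,2,3,2]) (Tr.leaf [0,2,0,1,2,1,0,2,0,2,0,3,2,3])) (Tr.node (Tr.leaf [3,3,0,1,0,1,2,1,2,3,2,0]) (Tr.leaf [3,2,0,3,2,0,3,0,1,2,0,2,0,1,2,3,0]))) (Tr.node (Tr.node (Tr.leaf [0,2,0,2,0,2,0,2,0,2]) (Tr.leaf [3,3,0,1,0,3,2,3,0,1,1,0,1,0,2,0])) (Tr.node (Tr.leaf [2,3,3,2,1,2,0,1,0,3,0,1]) (Tr.leaf [])))) (Tr.node (Tr.node (Tr.node (Tr.leaf [0,3,0,1,0,3,3,0,3,3]) (Tr.leaf [2,0,2,0,2,0,2,0,2,1,0,1,0,1,0,1])) (Tr.node (Tr.leaf [1,1,2,0,1,1,0,1,0,2,3,2]) (Tr.leaf []))) (Tr.node (Tr.node (Tr.leaf [2,1,1,2,3,2,1,2,3,3]) (Tr.leaf [2,3,0,1,2,3,0,1,2,3,0,1,2,3,0,1]))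 (Tr.node (Tr.leaf [1,2,1,2,3,2,3,3,0,3,0,1,1,0]) (Tr.leaf [])))))) (Tr.node (Tr.node (Tr.node (Tr.node (Tr.node (Tr.leaf [0,3,0,3,0,3,0,3]) (Tr.leaf [0,2,0,3,2,3,0,2,0,1,2,1,0,2])) (Tr.node (Tr.leaf [3,0,3,0,3,3,0,2,1,2,3,2]) (Tr.leaf [3,0,3,0,2,1,0,2,1,0,2,3,3,0,2,0,2]))) (Tr.node (Tr.node (Tr.leaf [3,2,0,1,0,3,0,2,1,2]) (Tr.leaf [3,2,0,2,1,0,2,0,1,0,2,0,3,0,2,0])) (Tr.node (Tr.leaf [0,1,2,1,1,2,1,2,0,1,0,3]) (Tr.leaf [])))) (Tr.node (Tr.node (Tr.node (Tr.leaf [0,3,3,0,3,3,0,3,0,1]) (Tr.leaf [1,2,1,2,0,2,0,1,2,1,2,0,2,0])) (Tr.node (Tr.leaf [1,0,2,3,2,1,1,2,0,1,1,0]) (Tr.leaf []))) (Tr.node (Tr.node (Tr.leaf [3,3,2,3,3,2,3,2,1,2]) (Tr.leaf [2,0,1,1,0,2,3,0,2,0,1,1,0,2,0,1])) (Tr.node (Tr.leaf [0,2,0,3,2,1,0,2,0,3,2,1]) (Tr.leaf []))))) (Tr.node (Tr.node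 (Tr.node (Tr.node (Tr.leaf [0,1,1,0,1,1,0,3,0,1]) (Tr.leaf [1,0,3,2,3,0,2,1,0,3,2,0,1,2])) (Tr.node (Tr.leaf [3,2,1,2,3,2,0,3,0,3,3,0]) (Tr.leaf [2,0,3,0,1,2,0,3,2,3,0,3,2,0,2,0,1]))) (Tr.node (Tr.node (Tr.leaf [2,3,2,3,2,1,1,1,2,3]) (Tr.leaf [2,0,2,0,3,2,1,0,2,1,1,0,1,0,2,1])) (Tr.node (Tr.leaf [0,1,0,3,0,2,3,3,2,1,2,1]) (Tr.leaf [])))) (Tr.node (Tr.node (Tr.node (Tr.leaf [0,1,0,3,0,2,1,2,3,2]) (Tr.leaf [2,0,3,0,3,0,3,2,0,3,2,1,0,2,0,3])) (Tr.node (Tr.leaf [2,3,3,2,1,2,0,3,0,3,3,0]) (Tr.leaf []))) (Tr.node (Tr.node (Tr.leaf [1,0,1,2,1,2,3,2,0,1,1,0]) (Tr.leaf [0,3,2,0,3,2,1,2,0,2,3,2,1,0,2,1])) (Tr.node (Tr.leaf [2,3,2,1,1,2,3,0,1,1,0,1,0,1]) (Tr.leaf []))))))) (Tr.node (Tr.node (Tr.node (Tr.node (Tr.node (Tr.node (Tr.leaf [1,0,1,0,1,0,1,0]) (Tr.leaf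 [1,2,1,0,2,0,2,0,3,2,3,0,2,0])) (Tr.node (Tr.leaf [1,0,1,0,1,2,1,2,3,2,0,1]) (Tr.leaf [0,2,3,0,3,0,2,1,0,2,1,0,2,3,3,0,2]))) (Tr.node (Tr.node (Tr.leaf [1,2,3,2,0,1,0,3,0,2]) (Tr.leaf [2,0,3,0,2,0,3,2,0,2,1,0,2,0,1,0])) (Tr.node (Tr.leaf [1,0,3,0,1,2,1,1,2,1,2,0]) (Tr.leaf [])))) (Tr.node (Tr.node (Tr.node (Tr.leaf [0,3,0,1,0,1,1,0,1,1]) (Tr.leaf [3,2,0,1,2,1,0,3,2,3,0,2,1,0])) (Tr.node (Tr.leaf [3,0,1,1,0,3,2,1,2,3,2,0]) (Tr.leaf [3,1]))) (Tr.node (Tr.node (Tr.leaf [2,1,2,1,1,2,1,1,2,3]) (Tr.leaf [0,2,0,2,3,2,3,0,2,1,0,3,0,1,2,1])) (Tr.node (Tr.leaf [2,1,0,2,0,3,2,1,0,2,0,3]) (Tr.leaf []))))) (Tr.node (Tr.node (Tr.node (Tr.node (Tr.leaf [0,1,0,1,1,0,1,1,0,3]) (Tr.leaf [0,1,2,1,0,3,2,3,0,2,1,0,3,2])) (Tr.node (Tr.leaf [1,0,1,1,0,1,0,2,1,2,3,2]) (Tr.leaf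 [3,0,1,0,2,3,0,2,0,2,1,0,1,2,1,0,2]))) (Tr.node (Tr.node (Tr.leaf [1,1,2,3,2,3,2,3,2,1]) (Tr.leaf [2,1,2,0,3,2,0,1,2,1,0,3,2,0,3,0])) (Tr.node (Tr.leaf [2,3,2,3,3,2,0,1,0,3,0,3]) (Tr.leaf [])))) (Tr.node (Tr.node (Tr.node (Tr.leaf [0,3,3,0,3,0,1,0,1,1]) (Tr.leaf [1,0,2,1,0,2,0,3,2,1,0,2,1,0,1,0])) (Tr.node (Tr.leaf [2,0,1,1,0,1,0,2,3,2,1,1]) (Tr.leaf []))) (Tr.node (Tr.node (Tr.leaf [0,2,1,2,3,2,0,1,0,1,1,1]) (Tr.leaf [0,1,2,3,2,1,1,2,0,2,1,1,2,1,2,3])) (Tr.node (Tr.leaf [0,1,0,1,2,3,2,1,1,2,3,0,1,1]) (Tr.leaf [])))))) (Tr.node (Tr.node (Tr.node (Tr.node (Tr.node (Tr.leaf [2,1,2,1,2,1,2,1]) (Tr.leaf [0,3,2,3,0,2,0,1,2,1,0,2,0,2])) (Tr.node (Tr.leaf [1,2,1,2,3,2,0,3,3,0,1,0]) (Tr.leaf [3,0,2,0,2,3,0,1,0,2,1,0,2,1,0,1,2]))) (Tr.node (Tr.node (Tr.leaf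 [0,1,1,0,3,0,1,0,3,3]) (Tr.leaf [1,0,2,0,1,0,2,0,3,0,2,0,3,2,0,2])) (Tr.node (Tr.leaf [3,0,1,0,3,0,2,3,2,3,3,2]) (Tr.leaf [])))) (Tr.node (Tr.node (Tr.node (Tr.leaf [0,3,3,0,3,0,1,0,3,3]) (Tr.leaf [3,2,3,0,2,0,2,3,2,3,0,2,0,2])) (Tr.node (Tr.leaf [2,3,2,1,1,2,0,1,1,0,1,0]) (Tr.leaf []))) (Tr.node (Tr.node (Tr.leaf [2,3,2,1,2,3,3,2,1,1]) (Tr.leaf [3,2,1,0,2,0,1,1,0,2,0,1,2,1,0,2])) (Tr.node (Tr.leaf [1,2,1,1,2,1,2,0,3,3,0,1,0,1]) (Tr.leaf []))))) (Tr.node (Tr.node (Tr.node (Tr.node (Tr.leaf [1,0,1,1,0,3,0,1,0,1]) (Tr.leaf [3,2,3,0,2,1,0,3,2,0,1,2,1,0])) (Tr.node (Tr.leaf [0,3,0,3,3,0,3,2,1,2,3,2]) (Tr.leaf [0,2,0,1,0,3,2,1,1,0,2,0,1,0,2,3,2]))) (Tr.node (Tr.node (Tr.leaf [1,2,1,1,2,3,2,1,2,1]) (Tr.leaf [2,0,2,1,2,3,2,0,3,0,1,0,2,1,2,3])) (Tr.node (Tr.leaf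 [1,1,2,0,1,0,3,0,3,2,3,2]) (Tr.leaf [])))) (Tr.node (Tr.node (Tr.node (Tr.leaf [0,3,0,2,1,2,3,2,0,1]) (Tr.leaf [1,2,3,3,0,1,0,3,0,2,0,3,0,3,3,0])) (Tr.node (Tr.leaf [2,3,3,2,1,2,0,3,0,1,1,0]) (Tr.leaf []))) (Tr.node (Tr.node (Tr.leaf [1,2,1,2,3,2,0,1,1,0,1,0]) (Tr.leaf [3,2,0,2,1,2,0,2,3,2,0,2,1,2,0,2])) (Tr.node (Tr.leaf [3,2,3,3,2,1,2,1,0,3,0,3,3,0]) (Tr.leaf [])))))))))

/-- The witnesses of the rotations. -/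
noncomputable def witT : Tr (Nat × Nat × Bool) := (Tr.node (Tr.node (Tr.node (Tr.node (Tr.node (Tr.node (Tr.node (Tr.node (Tr.leaf (0,0,false)) (Tr.leaf (29,12,false))) (Tr.node (Tr.leaf (12,4,false)) (Tr.leaf (54,7,false)))) (Tr.node (Tr.node (Tr.leaf (5,3,false)) (Tr.leaf (36,3,false))) (Tr.node (Tr.leaf (18,6,false)) (Tr.leaf (0,0,false))))) (Tr.node (Tr.node (Tr.node (Tr.leaf (3,5,false)) (Tr.leaf (31,8,false))) (Tr.node (Tr.leaf (14,10,true)) (Tr.leaf (61,0,false)))) (Tr.node (Tr.node (Tr.leaf (9,2,false)) (Tr.leaf (43,9,false))) (Tr.node (Tr.leaf (23,1,false)) (Tr.leaf (0,0,false)))))) (Tr.node (Tr.node (Tr.node (Tr.node (Tr.leaf (2,2,false)) (Tr.leaf (30,11,false))) (Tr.node (Tr.leaf (13,9,false)) (Tr.leaf (56,8,true)))) (Tr.node (Tr.node (Tr.leaf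 (7,1,false)) (Tr.leaf (37,14,false))) (Tr.node (Tr.leaf (19,7,true)) (Tr.leaf (0,0,false))))) (Tr.node (Tr.node (Tr.node (Tr.leaf (3,5,true)) (Tr.leaf (32,6,true))) (Tr.node (Tr.leaf (16,4,false)) (Tr.leaf (0,0,false)))) (Tr.node (Tr.node (Tr.leaf (10,4,false)) (Tr.leaf (49,5,true))) (Tr.node (Tr.leaf (24,5,true)) (Tr.leaf (0,0,false))))))) (Tr.node (Tr.node (Tr.node (Tr.node (Tr.node (Tr.leaf (1,2,false)) (Tr.leaf (30,2,false))) (Tr.node (Tr.leaf (12,5,true)) (Tr.leaf (54,12,true)))) (Tr.node (Tr.node (Tr.leaf (5,7,false)) (Tr.leaf (37,5,false))) (Tr.node (Tr.leaf (19,2,false)) (Tr.leaf (0,0,false))))) (Tr.node (Tr.node (Tr.node (Tr.leaf (3,9,false)) (Tr.leaf (31,13,false))) (Tr.node (Tr.leaf (15,11,true)) (Tr.leaf (0,0,false)))) (Tr.node (Tr.node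 (Tr.leaf (9,8,false)) (Tr.leaf (46,12,false))) (Tr.node (Tr.leaf (23,5,false)) (Tr.leaf (0,0,false)))))) (Tr.node (Tr.node (Tr.node (Tr.node (Tr.leaf (3,1,false)) (Tr.leaf (31,1,false))) (Tr.node (Tr.leaf (14,9,false)) (Tr.leaf (58,11,true)))) (Tr.node (Tr.node (Tr.leaf (8,3,false)) (Tr.leaf (40,5,true))) (Tr.node (Tr.leaf (21,4,true)) (Tr.leaf (0,0,false))))) (Tr.node (Tr.node (Tr.node (Tr.leaf (4,8,false)) (Tr.leaf (34,5,false))) (Tr.node (Tr.leaf (16,9,false)) (Tr.leaf (0,0,false)))) (Tr.node (Tr.node (Tr.leaf (11,9,true)) (Tr.leaf (51,9,false))) (Tr.node (Tr.leaf (26,1,false)) (Tr.leaf (0,0,false)))))))) (Tr.node (Tr.node (Tr.node (Tr.node (Tr.node (Tr.node (Tr.leaf (0,1,true)) (Tr.leaf (30,0,false))) (Tr.node (Tr.leaf (12,9,false)) (Tr.leaf (54,9,false))))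 (Tr.node (Tr.node (Tr.leaf (5,5,false)) (Tr.leaf (37,2,false))) (Tr.node (Tr.leaf (18,6,true)) (Tr.leaf (0,0,false))))) (Tr.node (Tr.node (Tr.node (Tr.leaf (3,7,false)) (Tr.leaf (31,10,false))) (Tr.node (Tr.leaf (15,2,false)) (Tr.leaf (61,2,false)))) (Tr.node (Tr.node (Tr.leaf (9,5,false)) (Tr.leaf (45,14,false))) (Tr.node (Tr.leaf (23,3,false)) (Tr.leaf (0,0,false)))))) (Tr.node (Tr.node (Tr.node (Tr.node (Tr.leaf (2,2,true)) (Tr.leaf (30,13,false))) (Tr.node (Tr.leaf (14,2,false)) (Tr.leaf (57,14,false)))) (Tr.node (Tr.node (Tr.leaf (8,0,false)) (Tr.leaf (39,11,false))) (Tr.node (Tr.leaf (21,0,false)) (Tr.leaf (0,0,false))))) (Tr.node (Tr.node (Tr.node (Tr.leaf (4,0,false)) (Tr.leaf (33,1,true))) (Tr.node (Tr.leaf (16,7,false)) (Tr.leaf (0,0,false))))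 (Tr.node (Tr.node (Tr.leaf (11,3,false)) (Tr.leaf (50,4,false))) (Tr.node (Tr.leaf (25,12,true)) (Tr.leaf (0,0,false))))))) (Tr.node (Tr.node (Tr.node (Tr.node (Tr.node (Tr.leaf (1,2,true)) (Tr.leaf (30,7,false))) (Tr.node (Tr.leaf (13,0,false)) (Tr.leaf (55,8,false)))) (Tr.node (Tr.node (Tr.leaf (5,9,false)) (Tr.leaf (37,11,false))) (Tr.node (Tr.leaf (19,1,true)) (Tr.leaf (0,0,false))))) (Tr.node (Tr.node (Tr.node (Tr.leaf (3,2,true)) (Tr.leaf (32,1,true))) (Tr.node (Tr.leaf (16,2,false)) (Tr.leaf (0,0,false)))) (Tr.node (Tr.node (Tr.leaf (9,8,true)) (Tr.leaf (47,12,false))) (Tr.node (Tr.leaf (23,9,false)) (Tr.leaf (0,0,false)))))) (Tr.node (Tr.node (Tr.node (Tr.node (Tr.leaf (3,3,false)) (Tr.leaf (31,4,false))) (Tr.node (Tr.leaf (14,8,true)) (Tr.leaf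 (59,5,false)))) (Tr.node (Tr.node (Tr.leaf (9,0,false)) (Tr.leaf (41,6,false))) (Tr.node (Tr.leaf (22,1,true)) (Tr.leaf (0,0,false))))) (Tr.node (Tr.node (Tr.node (Tr.leaf (5,1,false)) (Tr.leaf (35,10,false))) (Tr.node (Tr.leaf (16,4,true)) (Tr.leaf (0,0,false)))) (Tr.node (Tr.node (Tr.leaf (12,2,false)) (Tr.leaf (53,4,false))) (Tr.node (Tr.leaf (27,3,true)) (Tr.leaf (0,0,false))))))))) (Tr.node (Tr.node (Tr.node (Tr.node (Tr.node (Tr.node (Tr.node (Tr.leaf (0,1,false)) (Tr.leaf (29,3,true))) (Tr.node (Tr.leaf (12,5,false)) (Tr.leaf (54,8,false)))) (Tr.node (Tr.node (Tr.leaf (5,4,false)) (Tr.leaf (36,11,false))) (Tr.node (Tr.leaf (18,4,true)) (Tr.leaf (0,0,false))))) (Tr.node (Tr.node (Tr.node (Tr.leaf (3,6,false)) (Tr.leaf (31,9,false))) (Tr.node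 (Tr.leaf (15,0,false)) (Tr.leaf (61,1,false)))) (Tr.node (Tr.node (Tr.leaf (9,3,false)) (Tr.leaf (44,9,false))) (Tr.node (Tr.leaf (23,2,false)) (Tr.leaf (0,0,false)))))) (Tr.node (Tr.node (Tr.node (Tr.node (Tr.leaf (2,1,true)) (Tr.leaf (30,12,false))) (Tr.node (Tr.leaf (13,10,false)) (Tr.leaf (56,9,true)))) (Tr.node (Tr.node (Tr.leaf (7,2,false)) (Tr.leaf (38,5,false))) (Tr.node (Tr.leaf (20,6,false)) (Tr.leaf (0,0,false))))) (Tr.node (Tr.node (Tr.node (Tr.leaf (3,7,true)) (Tr.leaf (33,6,false))) (Tr.node (Tr.leaf (16,6,false)) (Tr.leaf (0,0,false)))) (Tr.node (Tr.node (Tr.leaf (10,9,false)) (Tr.leaf (50,2,false))) (Tr.node (Tr.leaf (25,3,true)) (Tr.leaf (0,0,false))))))) (Tr.node (Tr.node (Tr.node (Tr.node (Tr.node (Tr.leaf (1,1,true)) (Tr.leaf (30,6,false)))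 (Tr.node (Tr.leaf (12,8,true)) (Tr.leaf (54,13,true)))) (Tr.node (Tr.node (Tr.leaf (5,8,false)) (Tr.leaf (37,9,false))) (Tr.node (Tr.leaf (19,4,false)) (Tr.leaf (0,0,false))))) (Tr.node (Tr.node (Tr.node (Tr.leaf (3,1,true)) (Tr.leaf (32,1,false))) (Tr.node (Tr.leaf (16,1,false)) (Tr.leaf (0,0,false)))) (Tr.node (Tr.node (Tr.leaf (9,5,true)) (Tr.leaf (47,7,false))) (Tr.node (Tr.leaf (23,6,false)) (Tr.leaf (0,0,false)))))) (Tr.node (Tr.node (Tr.node (Tr.node (Tr.leaf (3,2,false)) (Tr.leaf (31,3,false))) (Tr.node (Tr.leaf (14,3,true)) (Tr.leaf (58,13,true)))) (Tr.node (Tr.node (Tr.leaf (8,5,false)) (Tr.leaf (41,5,false))) (Tr.node (Tr.leaf (22,0,false)) (Tr.leaf (0,0,false))))) (Tr.node (Tr.node (Tr.node (Tr.leaf (5,0,false)) (Tr.leaf (34,10,true)))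 (Tr.node (Tr.leaf (16,3,true)) (Tr.leaf (0,0,false)))) (Tr.node (Tr.node (Tr.leaf (12,1,false)) (Tr.leaf (52,3,false))) (Tr.node (Tr.leaf (26,4,false)) (Tr.leaf (0,0,false)))))))) (Tr.node (Tr.node (Tr.node (Tr.node (Tr.node (Tr.node (Tr.leaf (1,1,false)) (Tr.leaf (30,1,false))) (Tr.node (Tr.leaf (12,11,false)) (Tr.leaf (54,11,true)))) (Tr.node (Tr.node (Tr.leaf (5,6,false)) (Tr.leaf (37,3,false))) (Tr.node (Tr.leaf (19,1,false)) (Tr.leaf (0,0,false))))) (Tr.node (Tr.node (Tr.node (Tr.leaf (3,8,false)) (Tr.leaf (31,12,false))) (Tr.node (Tr.leaf (15,10,true)) (Tr.leaf (61,3,false)))) (Tr.node (Tr.node (Tr.leaf (9,7,false)) (Tr.leaf (45,3,true))) (Tr.node (Tr.leaf (23,4,false)) (Tr.leaf (0,0,false)))))) (Tr.node (Tr.node (Tr.node (Tr.node (Tr.leaf (3,0,false))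 (Tr.leaf (31,0,false))) (Tr.node (Tr.leaf (14,8,false)) (Tr.leaf (58,16,false)))) (Tr.node (Tr.node (Tr.leaf (8,1,false)) (Tr.leaf (40,0,true))) (Tr.node (Tr.leaf (21,1,true)) (Tr.leaf (0,0,false))))) (Tr.node (Tr.node (Tr.node (Tr.leaf (4,5,false)) (Tr.leaf (34,3,false))) (Tr.node (Tr.leaf (16,8,false)) (Tr.leaf (0,0,false)))) (Tr.node (Tr.node (Tr.leaf (11,6,false)) (Tr.leaf (51,0,false))) (Tr.node (Tr.leaf (26,0,false)) (Tr.leaf (0,0,false))))))) (Tr.node (Tr.node (Tr.node (Tr.node (Tr.node (Tr.leaf (2,1,false)) (Tr.leaf (30,8,false))) (Tr.node (Tr.leaf (13,3,false)) (Tr.leaf (56,11,false)))) (Tr.node (Tr.node (Tr.leaf (6,5,false)) (Tr.leaf (37,13,false))) (Tr.node (Tr.leaf (19,6,true)) (Tr.leaf (0,0,false))))) (Tr.node (Tr.node (Tr.node (Tr.leaf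 (3,4,true)) (Tr.leaf (32,3,true))) (Tr.node (Tr.leaf (16,3,false)) (Tr.leaf (0,0,false)))) (Tr.node (Tr.node (Tr.leaf (10,2,false)) (Tr.leaf (48,11,false))) (Tr.node (Tr.leaf (24,4,false)) (Tr.leaf (0,0,false)))))) (Tr.node (Tr.node (Tr.node (Tr.node (Tr.leaf (3,4,false)) (Tr.leaf (31,5,false))) (Tr.node (Tr.leaf (14,9,true)) (Tr.leaf (60,6,false)))) (Tr.node (Tr.node (Tr.leaf (9,1,false)) (Tr.leaf (42,7,false))) (Tr.node (Tr.leaf (22,4,true)) (Tr.leaf (0,0,false))))) (Tr.node (Tr.node (Tr.node (Tr.leaf (5,2,false)) (Tr.leaf (35,3,true))) (Tr.node (Tr.leaf (17,3,true)) (Tr.leaf (0,0,false)))) (Tr.node (Tr.node (Tr.leaf (12,3,false)) (Tr.leaf (53,6,false))) (Tr.node (Tr.leaf (28,3,true)) (Tr.leaf (0,0,false))))))))))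

/-- The subgroup rotations. -/
noncomputable def srotT : Tr (List Nat × Nat × List Nat) := (Tr.node (Tr.leaf ([0,3],2,[1,0])) (Tr.leaf ([1,2],0,[2,3])))

/-- The certificate. -/
noncomputable def cert : Cert :=
  mkCert 4 1031 4108 2 212 214 6 63 177 33 132 164 8589934591 4294967295 13 11 8191 2047 24 22 3 ctree.get rotT.get srotT.get

/-- The relators. -/
def rels : List (List Nat) :=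
  [[1,1,1,1],
   [0,1,0,1,0,1,0,1],
   [1,2,1,2,1,2,1,2],
   [0,1,0,1,1,0,1,1,0,3],
   [0,1,0,1,1,0,3,3,0,3],
   [0,1,0,3,0,2,1,2,3,2],
   [0,1,0,3,3,0,1,1,0,3],
   [0,2,0,2,0,2,0,2,0,2],
   [1,1,1,2,3,2,3,2,3,2],
   [1,1,2,1,1,2,3,2,1,2],
   [1,1,2,3,2,1,2,3,3,2],
   [0,1,0,1,1,1,0,2,1,2,3,2],
   [0,1,0,1,2,1,2,3,2,0,1,1],
   [0,1,0,1,2,1,2,3,2,0,3,3],
   [0,1,0,2,1,2,3,2,1,0,1,1],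
   [0,1,0,2,1,2,3,2,1,0,3,3],
   [0,1,0,2,3,2,1,1,2,0,1,1],
   [0,1,0,2,3,2,1,1,2,0,3,3],
   [0,1,0,2,3,2,3,3,2,0,1,1],
   [0,1,0,3,0,1,2,1,1,2,1,2],
   [0,1,0,3,0,1,2,3,3,2,1,2],
   [0,1,0,3,0,2,1,1,2,1,2,1],
   [0,1,0,3,0,2,3,3,2,1,2,1],
   [0,2,0,3,2,1,0,2,0,3,2,1],
   [0,1,0,1,1,2,1,1,2,1,2,0,3,3],
   [0,1,0,1,1,2,1,2,3,2,3,0,3,3],
   [0,1,0,1,2,3,2,1,1,2,3,0,1,1],
   [0,1,0,3,2,1,1,2,1,2,3,0,3,3],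
   [0,1,0,3,2,3,2,1,1,2,1,0,1,1],
   [0,1,0,3,3,2,1,1,2,1,2,0,1,1],
   [0,1,2,1,0,2,0,2,0,3,2,3,0,2],
   [0,1,2,1,0,3,2,3,0,2,1,0,3,2],
   [0,1,2,1,2,0,2,0,1,2,1,2,0,2],
   [0,1,0,1,0,1,2,0,2,0,2,0,2,0,2,1],
   [0,1,0,1,0,2,1,0,2,0,3,2,1,0,2,1],
   [0,1,0,2,0,1,0,3,0,1,1,2,3,0,1,1],
   [0,1,0,2,0,3,0,1,1,0,1,2,3,0,1,1],
   [0,1,0,2,0,3,0,2,0,3,2,0,2,1,0,2],
   [0,1,0,2,0,3,3,0,1,0,3,2,3,0,1,1],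
   [0,1,0,2,1,0,3,0,1,1,0,2,3,0,1,1],
   [0,1,0,2,1,0,3,2,3,0,2,1,0,2,3,2],
   [0,1,0,2,1,2,0,2,0,3,2,1,0,2,1,1],
   [0,1,0,2,1,2,3,2,0,2,1,2,3,2,0,3],
   [0,1,0,3,0,1,1,2,0,1,1,0,1,0,3,2],
   [0,1,0,3,0,1,1,2,0,3,3,0,1,0,3,2],
   [0,1,0,3,2,0,1,2,1,2,0,2,0,3,2,3],
   [0,1,0,3,2,0,2,0,2,0,2,0,1,2,3,2],
   [0,1,1,0,2,0,1,2,0,1,1,0,2,3,0,2],
   [0,1,1,0,2,0,1,2,1,0,2,3,2,1,0,2],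
   [0,1,2,1,0,2,1,2,1,2,0,2,1,0,3,2],
   [0,1,2,3,0,1,2,3,0,1,2,3,0,1,2,3],
   [0,1,2,3,2,1,1,2,0,2,1,1,2,1,2,3],
   [0,2,1,0,3,2,0,3,2,1,2,0,2,3,2,1],
   [0,2,1,2,0,2,3,2,0,2,1,2,0,2,3,2],
   [0,1,0,1,2,0,2,0,1,1,2,0,3,2,0,3,2],
   [0,1,0,1,2,0,2,0,3,3,2,0,3,2,0,3,2],
   [0,1,0,2,1,0,2,1,0,1,2,3,0,2,0,2,3],
   [0,1,0,2,1,0,2,1,0,3,3,2,0,2,0,1,2],
   [0,1,0,2,3,0,2,0,2,1,0,1,2,1,0,2,3],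
   [0,1,0,2,3,2,0,1,2,3,2,0,2,1,1,0,2],
   [0,1,0,2,3,2,0,2,0,1,0,3,2,1,1,0,2]]

/-- The words of the subgroup. -/
def subs : List (List Nat) :=
  [[0,3,2,1,0],
   [1,2,0,2,3]]

end Cfsg.Agent.Lib.CosetCert.D.RuT.Lv1.Tab
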